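import Groth.Agent.QCFilt72.Presentable
import Groth.Agent.QCGroth72.Separator
import Groth.Agent.Props58.Ext.FPExt
import Groth.Agent.EGA73.Invertible
import Groth.Agent.LimTop61.AmpleStage
import Groth.Agent.ZClos93.FiltColim
import Mathlib.CategoryTheory.Presentable.StrongGenerator
import Mathlib.CategoryTheory.Presentable.Dense

/-!
On a quasi-compact quasi-separated scheme every quasi-coherent module is a filtered colimit of finitely
presented ones.
-/

set_option autoImplicit false
set_option backward.isDefEq.respectTransparency.types false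
set_option linter.style.haveILetI false

noncomputable section

universe u

open CategoryTheory Limits AlgebraicGeometry TopologicalSpace Opposite
open Groth.Agent.QC70

attribute [local instance] Cardinal.fact_isRegular_aleph0

namespace Groth.Agent.QCFilt57

variable {X : Scheme.{u}}

theorem isFP_of_iso {M N : X.Modules} (e : M ≅ N) (h : CohB1.IsFP M) : CohB1.IsFP N :=
  (SheafOfModules.isFinitePresentation X.ringCatSheaf).prop_of_iso e h

/-- The small family of finitely presented objects. -/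
def fpFamily (p : { p : QCGroth72.SepIdx X // CohB1.IsFP (QCGroth72.sepFamily p).obj }) :
    QCohCat.QCoh X := QCGroth72.sepFamily p.1

theorem exists_fpFamily_iso (G : X.Modules) (hG : CohB1.IsFP G) :
    ∃ p, Nonempty ((fpFamily (X := X) p).obj ≅ G) := by
  classical
  haveI := hG
  haveI : G.IsQuasicoherent := inferInstance
  haveI : G.IsFiniteType := inferInstance
  have hinf : ∀ U : X.affineOpens, ∃ g : QCGroth72.GenIdx U → Γ(G, U.1),
      Submodule.span Γ(X, U.1) (Set.range g) = ⊤ := by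
    intro U
    obtain ⟨S, hS⟩ := (QC70.finite_sections_of_isFiniteType G U.2).fg_top
    obtain ⟨n, e⟩ : ∃ n, Nonempty (S ≃ Fin n) := ⟨_, ⟨S.equivFin⟩⟩
    let ι : ℕ → QCGroth72.GenIdx U := fun n => ⟨1, .inr (.inl ⟨U, PUnit.unit, n⟩)⟩
    let r : QCGroth72.GenIdx U → ℕ := fun j =>
      match j with
      | ⟨_ + 1, .inr (.inl ⟨_, _, m⟩)⟩ => m
      | _ => 0
    have hι : Function.Injective ι := fun a b h => congrArg r h
    let g : QCGroth72.GenIdx U → Γ(G, U.1) :=
      Function.extend (fun s : S => ι (e.some s)) (fun s => s.1) 0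
    refine ⟨g, eq_top_iff.mpr (hS ▸ Submodule.span_le.mpr fun s hs => Submodule.subset_span
      ⟨ι (e.some ⟨s, hs⟩), ?_⟩)⟩
    exact (hι.comp (Fin.val_injective.comp e.some.injective)).extend_apply (fun s : S => s.1) 0 ⟨s, hs⟩
  choose g hg using hinf
  obtain ⟨p, ⟨e⟩⟩ := QCGroth72.exists_iso_sepFamily G g hg
  exact ⟨⟨p, isFP_of_iso e.symm hG⟩, ⟨e⟩⟩

variable [CompactSpace X] [QuasiSeparatedSpace X]

/-- Sections over affine opens come from finitely presented modules. -/
theorem exists_fp_hit (M : X.Modules) [M.IsQuasicoherent] {U : X.Opens} (hU : IsAffineOpen U) (s : Γ(M, U)) :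
    ∃ (G : X.Modules) (i : G ⟶ M) (t : Γ(G, U)), CohB1.IsFP G ∧ i.app U t = s := by
  obtain ⟨G, φ', e, hG, he⟩ := Props58.Ext.exists_fp_extension M U hU.isCompact (Coh.structureModule U)
    (LimTop61.isFP_structureModule' _)
    (EGA73.unitHom (M.restrict U.ι) (res M U.ι_image_top.le s))
  refine ⟨G, φ', res G U.ι_image_top.ge (e.inv.app ⊤ (1 : Γ((U : Scheme.{u}), ⊤))), hG, ?_⟩
  rw [app_res]
  have h1 : e.hom.app ⊤ (e.inv.app ⊤ (1 : Γ((U : Scheme.{u}), ⊤))) = (1 : Γ((U : Scheme.{u}), ⊤)) :=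
    congr(Scheme.Modules.Hom.app $(e.inv_hom_id) ⊤ (1 : Γ((U : Scheme.{u}), ⊤)))
  have h2 := congr(Scheme.Modules.Hom.app $he ⊤ (e.inv.app ⊤ (1 : Γ((U : Scheme.{u}), ⊤))))
  replace h2 : @Eq Γ(M, U.ι ''ᵁ ⊤)
      ((EGA73.unitHom (M.restrict U.ι) (res M U.ι_image_top.le s)).app ⊤
        (e.hom.app ⊤ (e.inv.app ⊤ (1 : Γ((U : Scheme.{u}), ⊤)))))
      (φ'.app (U.ι ''ᵁ ⊤) (e.inv.app ⊤ (1 : Γ((U : Scheme.{u}), ⊤)))) := h2
  rw [h1] at h2
  refine (congrArg (res M U.ι_image_top.ge) h2.symm).trans ?_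
  refine (congrArg (res M U.ι_image_top.ge) ((EGA73.unitHom_app _ _ ⊤ 1).trans (one_smul _ _))).trans ?_
  change res M U.ι_image_top.ge (res M (le_refl _) (res M U.ι_image_top.le s)) = s
  rw [res_res, res_res, res_self]

theorem isSeparating_fpFamily : (ObjectProperty.ofObj (fpFamily (X := X))).IsSeparating := by
  intro M N f g h
  have : M.obj.IsQuasicoherent := M.property
  have : ((QCohCat.isQCoh X).ι.obj M).IsQuasicoherent := M.property
  refine (QCohCat.isQCoh X).ι.map_injective (sub_eq_zero.mp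
    (QCFilt72.hom_eq_zero_of_sections _ (fun U : X.affineOpens => U.1) (fun U => U.2)
      (iSup_affineOpens_eq_top X) fun U s => ?_))
  obtain ⟨G, i, t, hG, ht⟩ := exists_fp_hit M.obj U.2 s
  obtain ⟨p, ⟨e⟩⟩ := exists_fpFamily_iso G hG
  have hh := congrArg (fun ψ => Scheme.Modules.Hom.app ψ U.1 (e.inv.app U.1 t))
    (congrArg (fun k => k.hom) (h _ ⟨p⟩ (ObjectProperty.homMk (e.hom ≫ i))))
  simp only [ObjectProperty.FullSubcategory.comp_hom, ObjectProperty.homMk_hom,
    ZClos93.app_comp_apply] at hh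
  rw [← ZClos93.app_comp_apply e.inv e.hom, e.inv_hom_id, Scheme.Modules.Hom.id_app] at hh
  change f.hom.app U.1 (i.app U.1 t) = g.hom.app U.1 (i.app U.1 t) at hh
  rw [ht] at hh
  change f.hom.app U.1 s - g.hom.app U.1 s = 0
  rw [hh, sub_self]

theorem isCardinalLocallyPresentable :
    IsCardinalLocallyPresentable (QCohCat.QCoh X) Cardinal.aleph0.{u} := by
  have hsep := isSeparating_fpFamily (X := X)
  have hQ : (ObjectProperty.ofObj (fpFamily (X := X))).IsStrongGenerator := by
    rw [ObjectProperty.isStrongGenerator_iff]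
    refine ⟨hsep, fun A B i _ h => ?_⟩
    have h0 : cokernel.π i = 0 := hsep _ _ fun G hG g => by
      obtain ⟨g', hg'⟩ := h G hG g
      rw [comp_zero, ← hg', Category.assoc, cokernel.condition, comp_zero]
    haveI : Epi i := Preadditive.epi_of_isZero_cokernel i (IsZero.of_epi_eq_zero _ h0)
    exact isIso_of_mono_of_epi i
  have hQ' : ObjectProperty.ofObj (fpFamily (X := X)) ≤
      isCardinalPresentable (QCohCat.QCoh X) Cardinal.aleph0 := by
    rintro _ ⟨p⟩
    haveI : CohB1.IsFP (fpFamily p).obj := p.2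
    exact QCFilt72.isFinitelyPresentable_of_isFP (fpFamily p)
  exact (IsCardinalLocallyPresentable.iff_exists_isStrongGenerator _ _).mpr
    ⟨_, inferInstance, hQ, hQ'⟩

theorem exists_diagram (F : X.Modules) (hF : F.IsQuasicoherent) :
    ∃ (I : Type u) (_ : SmallCategory I) (_ : IsFiltered I) (D : I ⥤ X.Modules) (c : Cocone D)
      (_ : IsColimit c), (∀ i, CohB1.IsFP (D.obj i)) ∧ c.pt = F := by
  haveI := isCardinalLocallyPresentable (X := X)
  obtain ⟨J, _, _, ⟨p⟩⟩ := (isCardinalFilteredGenerator_isCardinalPresentable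
    (QCohCat.QCoh X) Cardinal.aleph0.{u}).exists_colimitsOfShape (⟨F, hF⟩ : QCohCat.QCoh X)
  haveI : IsFiltered J := isFiltered_of_isCardinalFiltered J Cardinal.aleph0
  obtain ⟨hc⟩ := QCFilt72.isColimit_mapCocone_ι _ p.isColimit
  refine ⟨J, inferInstance, inferInstance, _, _, hc, fun j => ?_, rfl⟩
  haveI : IsFinitelyPresentable.{u} (p.diag.obj j) := p.prop_diag_obj j
  haveI : (p.diag.obj j).obj.IsQuasicoherent := (p.diag.obj j).property
  exact Props58.LocFree.isFP_of_sections (p.diag.obj j).obj (fun W : X.affineOpens => W.1)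
    (iSup_affineOpens_eq_top X) (fun W => W.2)
    fun W => QCFilt72.finitePresentation_sections_of_isFinitelyPresentable (p.diag.obj j) W.2

end Groth.Agent.QCFilt57
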